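import Cfsg.Agent.H31.Commutator.Groups
import Cfsg.Agent.H89.CN.Chain

/-!
# Elementary divisors with small coprime blocks merged
-/

set_option autoImplicit false

namespace H13.Uni

open Matrix Polynomial
open H89.CN (Sim Dec rComp)

variable {K : Type*} [Field K]

/-- A small block is a prime power. -/
def SmallPow (f : K[X]) : Prop :=
  f.natDegree ≤ 3 → ∃ (p : K[X]) (e : ℕ), p.Monic ∧ Irreducible p ∧ 0 < e ∧ f = p ^ e

theorem exists_minimal {n : ℕ} (A : Matrix (Fin n) (Fin n) K) :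
    ∃ (N : ℕ) (f : Fin N → K[X]),
      ((∀ i, (f i).Monic ∧ 0 < (f i).natDegree ∧ SmallPow (f i)) ∧
        H41.Similar (H89.CN.rowEnd A) (H41.modelEnd f)) ∧
      ∀ i j, i ≠ j → (f i).natDegree ≤ 3 → (f j).natDegree ≤ 3 →
        4 ≤ (f i).natDegree + (f j).natDegree → ¬ IsCoprime (f i) (f j) := by
  classical
  let P : ℕ → Prop := fun N => ∃ f : Fin N → K[X],
    (∀ i, (f i).Monic ∧ 0 < (f i).natDegree ∧ SmallPow (f i)) ∧
      H41.Similar (H89.CN.rowEnd A) (H41.modelEnd f)
  have hP : ∃ N, P N := by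
    obtain ⟨N, p, e, hp, hs⟩ := H41.exists_model (H89.CN.rowEnd A)
    refine ⟨N, fun i => p i ^ e i, fun i => ⟨(hp i).1.pow _, ?_, fun _ =>
      ⟨p i, e i, (hp i).1, (hp i).2.1, (hp i).2.2, rfl⟩⟩, hs⟩
    rw [natDegree_pow]
    exact Nat.mul_pos (hp i).2.2 (hp i).2.1.natDegree_pos
  obtain ⟨f, hf, hs⟩ := Nat.find_spec hP
  refine ⟨_, f, ⟨hf, hs⟩, fun i j hij hi hj h4 hcop => ?_⟩
  let s : Finset (Fin (Nat.find hP)) := {i, j}
  let M := Fintype.card {k // k ∉ s}
  let E : Fin M ≃ {k // k ∉ s} := (Fintype.equivFin _).symm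
  let g : Fin M → K[X] := fun a => f (E a)
  have hpw : (s : Set (Fin (Nat.find hP))).Pairwise (Function.onFun IsCoprime f) := by
    intro a ha b hb hab
    simp only [s, Finset.coe_insert, Finset.coe_singleton, Set.mem_insert_iff,
      Set.mem_singleton_iff] at ha hb
    rcases ha with rfl | rfl <;> rcases hb with rfl | rfl
    exacts [absurd rfl hab, hcop, hcop.symm, absurd rfl hab]
  have hmerge := H89.CN.similar_merge f (fun k => (hf k).1) s hpw g (fun a => (hf _).1)
    (H41.similar_reindex (fun k : {k // k ∉ s} => f k) g E E.bijective fun _ => rfl)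
  rw [Finset.prod_pair hij] at hmerge
  have hlt : M + 1 < Nat.find hP := by
    have h1 : M = Nat.find hP - s.card := by
      simp [M, Fintype.card_subtype_compl]
    have h2 : s.card = 2 := Finset.card_pair hij
    have h3 := Finset.card_le_univ s
    rw [Fintype.card_fin] at h3
    omega
  refine Nat.find_min hP hlt ⟨_, ?_, hs.trans hmerge⟩
  intro a
  cases a using Fin.cases with
  | zero =>
    simp only [Fin.cons_zero]
    have hd : (f i * f j).natDegree = (f i).natDegree + (f j).natDegree :=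
      (hf i).1.natDegree_mul (hf j).1
    exact ⟨(hf i).1.mul (hf j).1, by omega, fun h => absurd h (by omega)⟩
  | succ a => simpa only [Fin.cons_succ] using hf (E a)

/-- The determinant is the product of the block determinants. -/
theorem det_dec : ∀ (l : List K[X]) {n : ℕ} (A : Matrix (Fin n) (Fin n) K), Dec A l →
    A.det = (l.map H31.Com.cd).prod
  | [], n, A, h => by
    obtain rfl : n = 0 := h
    simp
  | f :: l, n, A, ⟨hf, hd, N, e, A₂, hs, h2⟩ => by
    rw [hs.det_eq, det_reindex_self, det_fromBlocks_zero₁₂, det_dec l A₂ h2, List.map_cons,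
      List.prod_cons]
    congr 1
    let c : Fin f.natDegree ⊕ Fin 0 ≃ Fin f.natDegree := Equiv.sumEmpty _ _
    have hone : Dec (rComp f.natDegree f) [f] := by
      refine ⟨hf, hd, 0, c, 0, ?_, rfl⟩
      refine (congrArg (fun X => Sim (rComp f.natDegree f) X) ?_).mpr (Sim.refl _)
      ext x y
      obtain ⟨x | x, rfl⟩ := c.surjective x
      · obtain ⟨y | y, rfl⟩ := c.surjective y
        · simp [c]
        · exact y.elim0
      · exact x.elim0
    exact H31.Com.cd_eq_det hone

/-- Elementary divisors, with coprime small blocks merged as long as possible. -/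
theorem exists_normal {n : ℕ} (A : Matrix (Fin n) (Fin n) K) (h : A.det ≠ 0) :
    ∃ l : List K[X], Dec A l ∧ (l.map H31.Com.cd).prod = A.det ∧
      (∀ f ∈ l, f.Monic ∧ 0 < f.natDegree ∧ f.coeff 0 ≠ 0 ∧
        (f.natDegree ≤ 3 → ∃ (p : K[X]) (e : ℕ), p.Monic ∧ Irreducible p ∧ 0 < e ∧ f = p ^ e)) ∧
      l.Pairwise (fun f g => f.natDegree ≤ 3 → g.natDegree ≤ 3 →
        4 ≤ f.natDegree + g.natDegree → ¬ IsCoprime f g) := by
  obtain ⟨N, f, ⟨hf, hs⟩, hmax⟩ := exists_minimal A
  have hdec := H89.CN.dec_of_similar A f (fun i => ⟨(hf i).1, (hf i).2.1⟩) hs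
  have hdet := det_dec _ A hdec
  refine ⟨List.ofFn f, hdec, hdet.symm, fun g hg => ?_, ?_⟩
  · have hne : H31.Com.cd g ≠ 0 := by
      intro h0
      rw [hdet] at h
      exact h (List.prod_eq_zero (List.mem_map.2 ⟨g, hg, h0⟩))
    obtain ⟨i, rfl⟩ := List.mem_ofFn.1 hg
    exact ⟨(hf i).1, (hf i).2.1, right_ne_zero_of_mul hne, (hf i).2.2⟩
  · rw [List.pairwise_ofFn]
    exact fun i j hij => hmax i j hij.ne

theorem rComp_X_sub_C (c : K) {m : ℕ} (hm : m = 1) :
    rComp m (X - C c) = c • (1 : Matrix (Fin m) (Fin m) K) := by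
  subst hm
  ext i j
  fin_cases i; fin_cases j
  simp [rComp]

/-- A matrix with all elementary divisors `X - c` is scalar. -/
theorem scalar_of_dec (c : K) : ∀ {k n : ℕ} (A : Matrix (Fin n) (Fin n) K),
    Dec A (List.replicate k (X - C c)) → A = c • 1
  | 0, n, A, h => by
    obtain rfl : n = 0 := h
    exact Subsingleton.elim _ _
  | k + 1, n, A, ⟨hf, hd, N, e, A₂, hs, h2⟩ => by
    obtain ⟨P, hP, hPA⟩ := hs
    have hsc : Matrix.reindex e e (fromBlocks (rComp (X - C c).natDegree (X - C c)) 0 0 A₂) =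
        c • (1 : Matrix (Fin n) (Fin n) K) := by
      rw [rComp_X_sub_C c (natDegree_X_sub_C c), scalar_of_dec c A₂ h2]
      ext x y
      obtain ⟨x | x, rfl⟩ := e.surjective x <;> obtain ⟨y | y, rfl⟩ := e.surjective y <;>
        simp [Matrix.one_apply]
    rw [hsc] at hPA
    calc A = P⁻¹ * (P * A) := (Matrix.nonsing_inv_mul_cancel_left _ _ hP).symm
      _ = c • 1 := by
        rw [hPA, Matrix.smul_mul, Matrix.one_mul, Matrix.mul_smul, Matrix.nonsing_inv_mul _ hP]

end H13.Uni
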