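import Cfsg.Agent.H31.Unitary.Good
import Cfsg.Agent.H31.Unitary.DataC
import Cfsg.Agent.H13.Uni.Norm

/-!
Factorisations in `SL₂` and `SL₃` over four elements.
-/

set_option autoImplicit false
set_option maxRecDepth 100000
set_option linter.unusedSectionVars false

namespace H13.Uni

open Matrix Polynomial
open H89.CN (Sim Dec)
open H31.Com H31.Com.Uni

variable {K : Type*} [Field K]

theorem fac2_reindex {ι κ : Type*} [Fintype ι] [DecidableEq ι] [Fintype κ] [DecidableEq κ]
    {σ : K →+* K} {Φ : K[X]} {M : Matrix ι ι K} (h : Fac2 σ Φ M) (e : ι ≃ κ) :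
    Fac2 σ Φ (Matrix.reindex e e M) := by
  obtain ⟨A, P, h1, h2, h3, h4⟩ := h
  refine ⟨Matrix.reindex e e A, Matrix.reindex e e P, by rw [det_reindex_self, h1],
    by rw [det_reindex_self, h2], by rw [aeval_reindex, h3]; rfl, ?_⟩
  have e1 : ((Matrix.reindex e e A).map σ)ᵀ = ((A.map σ)ᵀ).submatrix e.symm e.symm := rfl
  rw [e1]
  simp only [reindex_apply, submatrix_mul_equiv, h4]

theorem fac2_of_sim {ι : Type*} [Fintype ι] [DecidableEq ι] {σ : K →+* K} {Φ : K[X]}
    (hnorm : ∀ x : K, x ≠ 0 → x * σ x = 1) {M N : Matrix ι ι K} (h : Fac2 σ Φ N) (hs : Sim M N) :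
    Fac2 σ Φ M := by
  obtain ⟨Q, hQ, hQM⟩ := hs
  obtain ⟨A, P, hA, hP, hΦ, hN⟩ := h
  have hQQ := Matrix.mul_nonsing_inv Q hQ
  have hQQ' := Matrix.nonsing_inv_mul Q hQ
  set X := Q⁻¹ with hX
  have hXdet : X.det ≠ 0 := by
    intro h0
    have := congrArg Matrix.det hQQ
    rw [det_mul, h0, mul_zero, det_one] at this
    exact zero_ne_one this
  have hMX : M * X = X * N := by
    calc M * X = X * Q * (M * X) := by rw [hQQ', Matrix.one_mul]
      _ = X * (Q * M) * X := by simp only [Matrix.mul_assoc]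
      _ = X * N * (Q * X) := by rw [hQM]; simp only [Matrix.mul_assoc]
      _ = X * N := by rw [hQQ, Matrix.mul_one]
  refine ⟨X * A * Q, X * P * (X.map σ)ᵀ, ?_, ?_, ?_, ?_⟩
  · rw [det_mul_right_comm, hQQ', Matrix.one_mul, hA]
  · rw [det_mul, det_mul, det_transpose, hP, mul_one,
      show (X.map σ).det = σ X.det from (RingHom.map_det σ X).symm, hnorm _ hXdet]
  · have h1 := aeval_conj (P := X) (A := A) (B := X * A * Q)
      (by rw [Matrix.mul_assoc _ Q, hQQ, Matrix.mul_one]) Φ
    rw [hΦ, Matrix.mul_zero] at h1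
    have h2 := congrArg (· * Q) h1.symm
    simpa [Matrix.mul_assoc, hQQ'] using h2
  · have hmap : (X.map σ)ᵀ * ((X * A * Q).map σ)ᵀ = (A.map σ)ᵀ * (X.map σ)ᵀ := by
      rw [← transpose_mul, ← transpose_mul, ← Matrix.map_mul, Matrix.mul_assoc, Matrix.mul_assoc,
        hQQ, Matrix.mul_one, Matrix.map_mul]
    calc M * (X * P * (X.map σ)ᵀ) = M * X * P * (X.map σ)ᵀ := by simp only [Matrix.mul_assoc]
      _ = X * (N * P) * (X.map σ)ᵀ := by rw [hMX]; simp only [Matrix.mul_assoc]
      _ = X * A * (Q * X) * P * ((X.map σ)ᵀ * ((X * A * Q).map σ)ᵀ) := by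
        rw [hN, hQQ, Matrix.mul_one, hmap]; simp only [Matrix.mul_assoc]
      _ = _ := by simp only [Matrix.mul_assoc]

/-- The candidate block lists in dimension two. -/
def cand2 : List (List (List ℕ)) :=
  (allV 4 2).map (fun f => [f]) ++ (allV 4 1).flatMap fun f => (allV 4 1).map fun g => [f, g]

/-- The candidate block lists in dimension three, up to order. -/
def cand3 : List (List (List ℕ)) :=
  (allV 4 3).map (fun f => [f]) ++ ((allV 4 1).flatMap fun f => (allV 4 2).map fun g => [f, g]) ++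
    (allV 4 1).flatMap fun f => (allV 4 1).flatMap fun g => (allV 4 1).map fun h => [f, g, h]

/-- Determinant one lists are keys or scalar. -/
def covered (n : ℕ) (t : List (List (List ℕ) × List (List ℕ) × Wit)) (ms : List (List ℕ)) : Bool :=
  det4 ms % 4 != 1 || t.any (fun e => e.1 == ms) ||
    (List.range 4).any fun c => ms == List.replicate n [c]

theorem cand2_ok : cand2.all (covered 2 D4.small2) = true := by decide +kernel

theorem cand3_ok : cand3.all (covered 3 D4.small3) = true := by decide +kernel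

theorem small_cs : (D4.small2 ++ D4.small3).all (fun e => e.2.1.all fun x => D4.cs.contains x) = true := by
  decide +kernel

theorem degree_dec : ∀ (l : List K[X]) {n : ℕ} (A : Matrix (Fin n) (Fin n) K), Dec A l →
    (∀ f ∈ l, f.Monic ∧ 0 < f.natDegree) ∧ (l.map natDegree).sum = n
  | [], n, A, h => ⟨by simp, by simpa using (h : n = 0).symm⟩
  | f :: l, n, A, ⟨hf, hd, N, e, A₂, _, h2⟩ => by
    obtain ⟨h, hN⟩ := degree_dec l A₂ h2
    refine ⟨fun g hg => (List.mem_cons.1 hg).elim (fun e => e ▸ ⟨hf, hd⟩) (h g), ?_⟩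
    have := Fintype.card_congr e
    rw [Fintype.card_sum, Fintype.card_fin, Fintype.card_fin, Fintype.card_fin] at this
    rw [List.map_cons, List.sum_cons, hN, this]

variable {a : K} [Omega a]

theorem prod_cd_bpolys : ∀ ms : List (List ℕ), (∀ m ∈ ms, 0 < m.length) →
    ((bpolys a ms).map cd).prod = emb a (det4 ms)
  | [], _ => by simp [bpolys, det4]
  | m :: ms, h => by
    have ih := prod_cd_bpolys ms fun b hb => h b (List.mem_cons_of_mem _ hb)
    simp only [bpolys, List.map_cons, List.prod_cons] at ih ⊢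
    rw [ih, cd_bpoly (h m (List.mem_cons_self ..)), det4, emb_mul]

theorem bpoly_single (c : ℕ) : bpoly a [c] = X - C (emb a c) := by
  have h : bpoly a [c] = C (emb a c) + X := by simp [bpoly, ofE]
  rw [h, sub_eq_add_neg, ← map_neg, omega_neg a, add_comm]

variable [Fintype K] {σ : K →+* K} [Invol σ]

/-- A key of a table gives the factorisation. -/
theorem cfac_of_key (h4 : Fintype.card K = 4) (hσ : ∀ x, σ x = x ^ 2) {m e : ℕ}
    {M : Matrix (Fin m) (Fin m) K} {t : List (List (List ℕ) × List (List ℕ) × Wit)}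
    (ht : t.all (fun e => chk4 true e.1 e.2.1 e.2.2) = true)
    (hcs : t.all (fun e => e.2.1.all fun x => D4.cs.contains x) = true)
    {ms : List (List ℕ)} (hm : t.any (fun e => e.1 == ms) = true) (hA : Dec M (bpolys a ms)) :
    CFac σ e M := by
  obtain ⟨k, hk, hkm⟩ := List.any_eq_true.1 hm
  obtain rfl := eq_of_beq hkm
  have hcube : ∀ x : K, x ≠ 0 → x ^ 3 = 1 := fun x hx => by
    have := h4 ▸ FiniteField.pow_card x
    exact mul_left_cancel₀ hx (by linear_combination this)
  have hnorm : ∀ x : K, x ≠ 0 → x * σ x = 1 := fun x hx => by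
    rw [hσ, ← pow_succ', hcube x hx]
  obtain ⟨q, hq⟩ := simTo_of_dec4 _ M hA
  obtain ⟨A, P, hAd, hP, hΦ, hMP⟩ := fac2_of_sim hnorm
    (fac2_reindex (fac2_of_chk4 hσ hcube (List.all_eq_true.1 ht k hk)) q) hq
  have hcl : (bpolys a k.2.1).prod ∈ Submonoid.closure (cset a D4.cs) :=
    Submonoid.list_prod_mem _ fun p hp => by
      obtain ⟨x, hx, rfl⟩ := List.mem_map.1 hp
      exact Submonoid.subset_closure
        ⟨x, List.contains_iff_mem.1 (List.all_eq_true.1 (List.all_eq_true.1 hcs k hk) x hx), rfl⟩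
  have hfree : TFree σ (cset a D4.cs) := by
    rintro p ⟨x, hx, rfl⟩ r ⟨y, hy, rfl⟩
    exact cs_twist hσ hx hy
  refine ⟨_, A, P, by rw [hAd]; exact one_ne_zero, hP, hΦ, hfree.coprime hcl hcl,
    ⟨fun _ => by rw [hAd, map_one], fun _ => ?_⟩, Or.inr ⟨omega_two a, hMP⟩⟩
  rw [hAd, map_one, div_one]
  refine eval_closure (fun p hp => ?_) hcl
  obtain ⟨x, hx, rfl⟩ := hp
  exact (cs_prop hx).2.2.1

theorem cfac_of_cand (h4 : Fintype.card K = 4) (hσ : ∀ x, σ x = x ^ 2) {m e : ℕ}
    {M : Matrix (Fin m) (Fin m) K} (hdet : M.det = 1) (hns : ∀ μ : K, M ≠ μ • 1)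
    {t : List (List (List ℕ) × List (List ℕ) × Wit)} {cand : List (List (List ℕ))}
    (ht : t.all (fun e => chk4 true e.1 e.2.1 e.2.2) = true)
    (hcs : t.all (fun e => e.2.1.all fun x => D4.cs.contains x) = true)
    (hok : cand.all (covered m t) = true) {ms : List (List ℕ)} (hms : ms ∈ cand)
    (hpos : ∀ x ∈ ms, 0 < x.length) (hA : Dec M (bpolys a ms)) : CFac σ e M := by
  have h1 : det4 ms % 4 = 1 := by
    have h := det_dec _ M hA
    rw [hdet, prod_cd_bpolys ms hpos, ← emb_one (a := a)] at h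
    exact (emb_inj h).symm
  have h := List.all_eq_true.1 hok ms hms
  simp only [covered, h1, bne_self_eq_false, Bool.false_or, Bool.or_eq_true] at h
  rcases h with h | h
  · exact cfac_of_key h4 hσ ht hcs h hA
  · obtain ⟨c, -, hc⟩ := List.any_eq_true.1 h
    rw [eq_of_beq hc, bpolys, List.map_replicate, bpoly_single] at hA
    exact absurd (scalar_of_dec _ M hA) (hns _)

/-- The small factorisations. -/
theorem small_cfac (a : K) [Omega a] (h4 : Fintype.card K = 4) (hσ : ∀ x, σ x = x ^ 2) {m e : ℕ}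
    (hm : m = 2 ∨ m = 3) (_he : e ≤ 1) : SLFacU σ m e := by
  intro M hdet hns
  have hK : ∀ x : K, x ^ 4 = x := fun x => h4 ▸ FiniteField.pow_card x
  obtain ⟨l, hl⟩ := H89.CN.exists_dec M
  obtain ⟨hpos, hsum⟩ := degree_dec l M hl
  have code : ∀ f ∈ l, ∀ d, f.natDegree = d → ∃ x ∈ allV 4 d, f = bpoly a x ∧ x.length = d :=
    fun f hf d hd => by
      obtain ⟨x, h1, h2, h3⟩ := exists_code4 (a := a) hK (hpos f hf).1 hd
      exact ⟨x, h1, h3, h2⟩
  have hcs2 := small_cs
  rw [List.all_append, Bool.and_eq_true] at hcs2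
  rcases hm with rfl | rfl
  · match l, hl, hpos, hsum, code with
    | [], _, _, h, _ => simp at h
    | [f], hl, _, h, code =>
      obtain ⟨x, hx, rfl, hx2⟩ := code f (by simp) 2 (by simpa using h)
      exact cfac_of_cand h4 hσ hdet hns D4.small2_ok hcs2.1 cand2_ok (ms := [x])
        (List.mem_append_left _ (List.mem_map.2 ⟨x, hx, rfl⟩)) (by simp [hx2]) hl
    | [f, g], hl, hpos, h, code =>
      have hf := (hpos f (by simp)).2
      have hg := (hpos g (by simp)).2
      simp only [List.map_cons, List.map_nil, List.sum_cons, List.sum_nil] at h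
      obtain ⟨x, hx, rfl, hx2⟩ := code f (by simp) 1 (by omega)
      obtain ⟨y, hy, rfl, hy2⟩ := code g (by simp) 1 (by omega)
      exact cfac_of_cand h4 hσ hdet hns D4.small2_ok hcs2.1 cand2_ok (ms := [x, y])
        (List.mem_append_right _ (List.mem_flatMap.2 ⟨x, hx, List.mem_map.2 ⟨y, hy, rfl⟩⟩))
        (by simp [hx2, hy2]) hl
    | f :: g :: k :: r, _, hpos, h, _ =>
      have hf := (hpos f (by simp)).2
      have hg := (hpos g (by simp)).2
      have hk := (hpos k (by simp)).2
      simp only [List.map_cons, List.sum_cons] at h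
      omega
  · match l, hl, hpos, hsum, code with
    | [], _, _, h, _ => simp at h
    | [f], hl, _, h, code =>
      obtain ⟨x, hx, rfl, hx2⟩ := code f (by simp) 3 (by simpa using h)
      exact cfac_of_cand h4 hσ hdet hns D4.small3_ok hcs2.2 cand3_ok (ms := [x])
        (List.mem_append_left _ (List.mem_append_left _ (List.mem_map.2 ⟨x, hx, rfl⟩))) (by simp [hx2]) hl
    | [f, g], hl, hpos, h, code =>
      have hf := (hpos f (by simp)).2
      have hg := (hpos g (by simp)).2
      simp only [List.map_cons, List.map_nil, List.sum_cons, List.sum_nil] at h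
      have key : ∀ u ∈ [f, g], ∀ v ∈ [f, g], u.natDegree = 1 → v.natDegree = 2 → Dec M [u, v] →
          CFac σ e M := by
        intro u hu v hv hu1 hv2 hd
        obtain ⟨x, hx, rfl, hx2⟩ := code u hu 1 hu1
        obtain ⟨y, hy, rfl, hy2⟩ := code v hv 2 hv2
        exact cfac_of_cand h4 hσ hdet hns D4.small3_ok hcs2.2 cand3_ok (ms := [x, y])
          (List.mem_append_left _ (List.mem_append_right _
            (List.mem_flatMap.2 ⟨x, hx, List.mem_map.2 ⟨y, hy, rfl⟩⟩)))
          (by simp [hx2, hy2]) hd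
      rcases (by omega : f.natDegree = 1 ∧ g.natDegree = 2 ∨ g.natDegree = 1 ∧ f.natDegree = 2) with
        h' | h'
      · exact key f (by simp) g (by simp) h'.1 h'.2 hl
      · exact key g (by simp) f (by simp) h'.1 h'.2 (dec_swap hl)
    | [f, g, k], hl, hpos, h, code =>
      have hf := (hpos f (by simp)).2
      have hg := (hpos g (by simp)).2
      have hk := (hpos k (by simp)).2
      simp only [List.map_cons, List.map_nil, List.sum_cons, List.sum_nil] at h
      obtain ⟨x, hx, rfl, hx2⟩ := code f (by simp) 1 (by omega)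
      obtain ⟨y, hy, rfl, hy2⟩ := code g (by simp) 1 (by omega)
      obtain ⟨z, hz, rfl, hz2⟩ := code k (by simp) 1 (by omega)
      exact cfac_of_cand h4 hσ hdet hns D4.small3_ok hcs2.2 cand3_ok (ms := [x, y, z])
        (List.mem_append_right _ (List.mem_flatMap.2 ⟨x, hx, List.mem_flatMap.2 ⟨y, hy,
          List.mem_map.2 ⟨z, hz, rfl⟩⟩⟩)) (by simp [hx2, hy2, hz2]) hl
    | f :: g :: k :: r :: rs, _, hpos, h, _ =>
      have hf := (hpos f (by simp)).2
      have hg := (hpos g (by simp)).2
      have hk := (hpos k (by simp)).2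
      have hr := (hpos r (by simp)).2
      simp only [List.map_cons, List.sum_cons] at h
      omega

end H13.Uni
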